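import Groth.Prelude.Def_MoreMor
import Groth.Agent.FSchLib.Thickening

/-!
# Finite type morphisms detected on finite order thickenings
-/

universe u

set_option autoImplicit false
set_option backward.isDefEq.respectTransparency false

open AlgebraicGeometry CategoryTheory Limits

namespace Groth.Agent.FlatMorThick

variable {X X' Y Y' : Scheme.{u}} {iX : X ⟶ X'} {iY : Y ⟶ Y'} {f : X ⟶ Y} {f' : X' ⟶ Y'}

theorem isNilpotent_ideal (h : IsNilpotent iY.ker) (U : Y'.affineOpens) :
    IsNilpotent (iY.ker.ideal U) := by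
  obtain ⟨n, hn⟩ := h
  exact ⟨n + 1, by
    have h' : iY.ker ^ (n + 1) = ⊥ := le_bot_iff.1 (by rw [pow_succ, hn]; simp)
    simpa using congr($(h').ideal U)⟩

theorem ker_eq_comap_of_isPullback (hc : IsPullback iX f f' iY) [IsClosedImmersion iY] :
    iX.ker = iY.ker.comap f' := by
  rw [← Scheme.IdealSheafData.ker_fst_of_isClosedImmersion iY f', ← hc.isoPullback_hom_fst,
    Scheme.Hom.ker_comp_of_isIso]

theorem locallyOfFiniteType_iff (hS : MoreMor.IsFiniteOrderThickening iY)
    (hc : IsPullback iX f f' iY) : LocallyOfFiniteType f ↔ LocallyOfFiniteType f' := by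
  have := hS.1.1
  have : IsClosedImmersion iX := MorphismProperty.of_isPullback hc.flip inferInstance
  refine ⟨fun _ => ?_, fun h => MorphismProperty.of_isPullback hc h⟩
  rw [HasRingHomProperty.iff_exists_appLE (P := @LocallyOfFiniteType)
    (RingHom.finiteType_stableUnderComposition.stableUnderCompositionWithLocalizationAway
      RingHom.finiteType_holdsForLocalizationAway).left]
  intro x
  obtain ⟨U, hU, hxU, -⟩ :=
    exists_isAffineOpen_mem_and_subset (x := f' x) (U := ⊤) (Set.mem_univ _)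
  obtain ⟨V, hV, hxV, hVU'⟩ := exists_isAffineOpen_mem_and_subset (x := x) (U := f' ⁻¹ᵁ U) hxU
  have hVU : V ≤ f' ⁻¹ᵁ U := hVU'
  refine ⟨⟨U, hU⟩, ⟨V, hV⟩, hxV, hVU, FSchLib.finiteType_of_nilpotent _ (iX.app V).hom
    (iX.app_surjective V hV) (isNilpotent_ideal hS.2 ⟨U, hU⟩) ?_ ?_⟩
  · rw [← FSchLib.ideal_comap_eq_map f' _ ⟨V, hV⟩ ⟨U, hU⟩ hVU, ← ker_eq_comap_of_isPullback hc,
      Scheme.Hom.ker_apply]
  · show (f'.appLE U V hVU ≫ iX.app V).hom.FiniteType
    rw [Scheme.Hom.app_eq_appLE, Scheme.Hom.appLE_comp_appLE]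
    have : LocallyOfFiniteType (iX ≫ f') := hc.w ▸ inferInstance
    exact (iX ≫ f').finiteType_appLE hU (hV.preimage iX) _

end Groth.Agent.FlatMorThick
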