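import Groth.Prelude.Def_MoreMor
import Groth.Agent.VarietyLib.FiniteClosedCover
import Mathlib.AlgebraicGeometry.Morphisms.Integral

/-!
# Affine and integral morphisms along thickenings
-/

universe u

set_option autoImplicit false
set_option backward.isDefEq.respectTransparency false

open AlgebraicGeometry CategoryTheory Limits

namespace Groth.Agent.FlatMorThick

variable {X X' S S' : Scheme.{u}} (iX : X ⟶ X') (iS : S ⟶ S') (f : X ⟶ S) (f' : X' ⟶ S')

theorem isAffineHom_of_comp_surjective (g : X ⟶ X') (h : X' ⟶ S') [IsClosedImmersion g] [Surjective g]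
    [IsAffineHom (g ≫ h)] : IsAffineHom h := by
  refine ⟨fun V (hV : IsAffineOpen V) => ?_⟩
  have h1 : IsAffineOpen (g ⁻¹ᵁ (h ⁻¹ᵁ V)) := hV.preimage (g ≫ h)
  have : IsAffine (g ⁻¹ᵁ (h ⁻¹ᵁ V)).toScheme := h1
  exact VarietyLib.isAffine_of_surjective_closedImmersion (g ∣_ (h ⁻¹ᵁ V)) fun y => by
    obtain ⟨x, hx⟩ := g.surjective y.1
    exact ⟨⟨x, show g x ∈ h ⁻¹ᵁ V from hx ▸ y.2⟩, Subtype.ext (by simp [hx])⟩

theorem thickening_isAffineHom_iff (hX : MoreMor.IsThickening iX) (hS : MoreMor.IsThickening iS)
    (w : iX ≫ f' = f ≫ iS) : IsAffineHom f ↔ IsAffineHom f' := by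
  have := hX.1
  have := hX.2
  have := hS.1
  constructor
  · intro
    have : IsAffineHom (iX ≫ f') := by rw [w]; infer_instance
    exact isAffineHom_of_comp_surjective iX f'
  · intro
    have : IsAffineHom (f ≫ iS) := by rw [← w]; infer_instance
    exact MorphismProperty.of_postcomp @IsAffineHom (W' := @IsSeparated) f iS inferInstance this

theorem thickening_isIntegralHom_iff (hX : MoreMor.IsThickening iX) (hS : MoreMor.IsThickening iS)
    (w : iX ≫ f' = f ≫ iS) : IsIntegralHom f ↔ IsIntegralHom f' := by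
  have := hX.1
  have := hX.2
  have := hS.1
  constructor
  · intro
    have : IsIntegralHom (iX ≫ f') := by rw [w]; infer_instance
    rw [IsIntegralHom.iff_universallyClosed_and_isAffineHom]
    exact ⟨UniversallyClosed.of_comp_surjective iX f', isAffineHom_of_comp_surjective iX f'⟩
  · intro
    have : IsIntegralHom (f ≫ iS) := by rw [← w]; infer_instance
    exact IsIntegralHom.of_comp f iS

end Groth.Agent.FlatMorThick
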