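import Groth.Agent.FlatMorThick.Topological
import Groth.Agent.FlatMorThick.Affine
import Groth.Agent.FlatMor12.FibreFlat
import Mathlib.AlgebraicGeometry.ZariskisMainTheorem
import Mathlib.AlgebraicGeometry.Morphisms.QuasiFinite
import Mathlib.AlgebraicGeometry.Morphisms.Immersion

/-!
# Properties of locally finite type morphisms detected on thickenings
-/

universe u

set_option autoImplicit false
set_option backward.isDefEq.respectTransparency false
set_option linter.unusedSectionVars false

open AlgebraicGeometry CategoryTheory Limits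

namespace Groth.Agent.FlatMorThick

variable {X X' Y Y' : Scheme.{u}}

theorem isIso_residueFieldMap (i : X ⟶ Y) [IsPreimmersion i] (x : X) :
    IsIso (i.residueFieldMap x) := by
  refine (ConcreteCategory.isIso_iff_bijective _).2 ⟨RingHom.injective _, ?_⟩
  refine Function.Surjective.of_comp (g := ⇑(Y.residue (i x))) ?_
  have : ⇑(i.residueFieldMap x) ∘ ⇑(Y.residue (i x)) = ⇑(i.stalkMap x ≫ X.residue x) := by
    rw [← Scheme.residue_residueFieldMap]; rfl
  rw [this]
  exact (X.residue_surjective x).comp (i.stalkMap_surjective x)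

theorem prop_fiber_of_pullback (P : MorphismProperty Scheme.{u}) [P.IsStableUnderBaseChange]
    {iX : X ⟶ X'} {iY : Y ⟶ Y'} {f : X ⟶ Y} {f' : X' ⟶ Y'} (hc : IsPullback iX f f' iY)
    [IsPreimmersion iY] (hP : P f) (y : Y) : P (f'.fiberToSpecResidueField (iY y)) := by
  have := isIso_residueFieldMap iY y
  let e := Spec.map (iY.residueFieldMap y)
  have h1 := (IsPullback.of_hasPullback f (Y.fromSpecResidueField y)).paste_horiz hc
  have h2 : IsPullback (pullback.fst f (Y.fromSpecResidueField y) ≫ iX)
      (pullback.snd f (Y.fromSpecResidueField y) ≫ e) f' (Y'.fromSpecResidueField (iY y)) := by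
    refine h1.of_iso (Iso.refl _) (Iso.refl _) (asIso e) (Iso.refl _) ?_ ?_ ?_ ?_
    · simp
    · simp [e]
    · simp
    · simp [e, Scheme.Hom.SpecMap_residueFieldMap_fromSpecResidueField]
  have h3 : P (pullback.snd f (Y.fromSpecResidueField y) ≫ e) :=
    (P.cancel_right_of_respectsIso _ e).2 (MorphismProperty.pullback_snd _ _ hP)
  show P (pullback.snd f' (Y'.fromSpecResidueField (iY y)))
  rw [← h2.isoPullback_inv_snd]
  exact (P.cancel_left_of_respectsIso _ _).2 h3

variable (iX : X ⟶ X') (iY : Y ⟶ Y') (f : X ⟶ Y) (f' : X' ⟶ Y')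
  (hY : MoreMor.IsThickening iY) (hc : IsPullback iX f f' iY)

include hY hc in
theorem isThickening_of_isPullback : MoreMor.IsThickening iX := by
  have := hY.1; have := hY.2
  exact ⟨MorphismProperty.of_isPullback hc.flip inferInstance,
    MorphismProperty.of_isPullback hc.flip inferInstance⟩

variable [LocallyOfFiniteType f] [LocallyOfFiniteType f']

include hY hc

theorem lft_locallyQuasiFinite_iff : LocallyQuasiFinite f ↔ LocallyQuasiFinite f' := by
  have := hY.1; have := hY.2
  refine ⟨fun h => LocallyQuasiFinite.of_fiberToSpecResidueField f' fun y => ?_,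
    fun h => MorphismProperty.of_isPullback hc h⟩
  obtain ⟨y, rfl⟩ := iY.surjective y
  exact prop_fiber_of_pullback @LocallyQuasiFinite hc h y

theorem lft_formallyUnramified_iff : FormallyUnramified f ↔ FormallyUnramified f' := by
  have := hY.1; have := hY.2
  refine ⟨fun h => FlatMor12.formallyUnramified_of_fibres f' fun y => ?_,
    fun h => MorphismProperty.of_isPullback hc h⟩
  obtain ⟨y, rfl⟩ := iY.surjective y
  exact prop_fiber_of_pullback @FormallyUnramified hc h y

theorem lft_mono_iff : Mono f ↔ Mono f' := by
  constructor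
  · intro
    have : FormallyUnramified f' :=
      (lft_formallyUnramified_iff iX iY f f' hY hc).1 inferInstance
    have : UniversallyInjective f' := (thickening_universallyInjective_iff iX iY f f'
      (isThickening_of_isPullback iX iY f f' hY hc) hY hc.w).1 inferInstance
    have hs : Surjective (pullback.diagonal f') := (UniversallyInjective.iff_diagonal f').1 this
    have : IsIso (pullback.diagonal f') := isIso_of_isOpenImmersion_of_opensRange_eq_top _
      (SetLike.coe_injective (hs.1.range_eq))
    exact (pullback.isIso_diagonal_iff f').1 this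
  · intro h
    exact MorphismProperty.of_isPullback (P := MorphismProperty.monomorphisms Scheme.{u}) hc h

theorem lft_isClosedImmersion_iff : IsClosedImmersion f ↔ IsClosedImmersion f' := by
  refine ⟨fun h => ?_, fun h => MorphismProperty.of_isPullback hc h⟩
  have hX := isThickening_of_isPullback iX iY f f' hY hc
  have : IsFinite f' := by
    have := (thickening_isIntegralHom_iff iX iY f f' hX hY hc.w).1 inferInstance
    exact (IsFinite.iff_isIntegralHom_and_locallyOfFiniteType f').2 ⟨this, inferInstance⟩
  exact (IsClosedImmersion.iff_isFinite_and_mono f').2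
    ⟨this, (lft_mono_iff iX iY f f' hY hc).1 inferInstance⟩

theorem lft_isImmersion_iff : IsImmersion f ↔ IsImmersion f' := by
  refine ⟨fun h => ?_, fun h => MorphismProperty.of_isPullback hc h⟩
  have := hY.1; have := hY.2
  have hX := isThickening_of_isPullback iX iY f f' hY hc
  have := hX.2
  have := universallyOpen_of_thickening iY
  let U : Y'.Opens := ⟨iY '' (f.coborderRange : Set Y), iY.isOpenMap _ f.coborderRange.isOpen⟩
  have hU : iY ⁻¹ᵁ U = f.coborderRange :=
    SetLike.coe_injective (Set.preimage_image_eq _ iY.isClosedEmbedding.injective)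
  let L : X' ⟶ U := IsOpenImmersion.lift U.ι f' (by
    rw [Scheme.Opens.range_ι]
    rintro _ ⟨x', rfl⟩
    obtain ⟨x, rfl⟩ := iX.surjective x'
    exact ⟨f x, subset_coborder ⟨x, rfl⟩, congr($(hc.w) x).symm⟩)
  have hL : L ≫ U.ι = f' := IsOpenImmersion.lift_fac _ _ _
  let Lf : X ⟶ iY ⁻¹ᵁ U := f.liftCoborder ≫ (Y.isoOfEq hU).inv
  have hLf : Lf ≫ (iY ⁻¹ᵁ U).ι = f := by simp [Lf]
  have hc' : IsPullback iX Lf L (iY ∣_ U) := by
    refine IsPullback.of_bot ?_ ?_ (isPullback_morphismRestrict iY U)
    · rw [hLf, hL]; exact hc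
    · rw [← cancel_mono U.ι, Category.assoc, hL, Category.assoc, morphismRestrict_ι,
        reassoc_of% hLf, hc.w]
  have : LocallyOfFiniteType L := by
    have : LocallyOfFiniteType (L ≫ U.ι) := hL.symm ▸ inferInstance
    exact locallyOfFiniteType_of_comp L U.ι
  have hY' : MoreMor.IsThickening (iY ∣_ U) :=
    ⟨inferInstance, IsZariskiLocalAtTarget.restrict ‹Surjective iY› U⟩
  have := (lft_isClosedImmersion_iff iX (iY ∣_ U) Lf L hY' hc').1 inferInstance
  rw [← hL]
  infer_instance

end Groth.Agent.FlatMorThick
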