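import Groth.Prelude.Def_MoreMor
import Mathlib.AlgebraicGeometry.Morphisms.UniversallyClosed
import Mathlib.AlgebraicGeometry.Morphisms.UniversallyInjective
import Mathlib.AlgebraicGeometry.Morphisms.UniversallyOpen
import Mathlib.AlgebraicGeometry.Morphisms.QuasiSeparated
import Mathlib.AlgebraicGeometry.Morphisms.ClosedImmersion

/-!
# Topological properties of morphisms of thickenings
-/

universe u

set_option autoImplicit false
set_option backward.isDefEq.respectTransparency false

open AlgebraicGeometry CategoryTheory Limits

namespace Groth.Agent.FlatMorThick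

variable {X Y Z : Scheme.{u}} (g : X ⟶ Y) (h : Y ⟶ Z)

/-- A property stable under base change descends along a monomorphism of the target. -/
theorem of_comp_mono (P : MorphismProperty Scheme.{u}) [P.IsStableUnderBaseChange] (f : X ⟶ Y)
    (i : Y ⟶ Z) [Mono i] (hP : P (f ≫ i)) : P f := by
  have h' : IsPullback (𝟙 X) f (f ≫ i) i :=
    IsPullback.of_isLimit' ⟨by simp⟩ (PullbackCone.IsLimit.mk _ (fun s => s.fst)
      (fun s => Category.comp_id _)
      (fun s => by rw [← cancel_mono i, Category.assoc]; exact s.condition)
      (fun s m h₁ _ => by simpa using h₁))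
  exact MorphismProperty.of_isPullback h' hP

theorem quasiCompact_of_comp_surjective [Surjective g] [QuasiCompact (g ≫ h)] : QuasiCompact h :=
  ⟨fun U hU hc => by
    have := (QuasiCompact.isCompact_preimage (f := g ≫ h) U hU hc).image g.continuous
    rwa [show ⇑(g ≫ h) ⁻¹' U = ⇑g ⁻¹' (⇑h ⁻¹' U) from rfl, Set.image_preimage_eq _ g.surjective]
      at this⟩

theorem universallyInjective_of_comp_surjective [Surjective g] [UniversallyInjective (g ≫ h)] :
    UniversallyInjective h := by
  constructor
  intro X' Y' i₁ i₂ f' H
  have H' := UniversallyInjective.universally_injective _ _ _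
    ((IsPullback.of_hasPullback i₁ g).paste_horiz H)
  exact Function.Injective.of_comp_right (g := ⇑(pullback.fst i₁ g))
    H' (MorphismProperty.pullback_fst (P := @Surjective) _ _ ‹_›).1

theorem universallyOpen_of_comp_surjective [Surjective g] [UniversallyOpen (g ≫ h)] :
    UniversallyOpen h := by
  constructor
  intro X' Y' i₁ i₂ f' H
  have H' : IsOpenMap (⇑(pullback.fst i₁ g ≫ f')) := UniversallyOpen.universally_isOpenMap _ _ _
    ((IsPullback.of_hasPullback i₁ g).paste_horiz H)
  intro U hU
  have := H' _ (hU.preimage (pullback.fst i₁ g).continuous)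
  rwa [show ⇑(pullback.fst i₁ g ≫ f') = ⇑f' ∘ ⇑(pullback.fst i₁ g) from rfl, Set.image_comp,
    Set.image_preimage_eq _ (MorphismProperty.pullback_fst (P := @Surjective) _ _ ‹_›).1] at this

theorem universallyOpen_of_thickening [IsClosedImmersion g] [Surjective g] : UniversallyOpen g := by
  constructor
  intro X' Y' i₁ i₂ f' H
  have : IsClosedImmersion f' := MorphismProperty.of_isPullback H.flip inferInstance
  have : Surjective f' := MorphismProperty.of_isPullback H.flip inferInstance
  exact (f'.isClosedEmbedding.isEmbedding.toHomeomorphOfSurjective f'.surjective).isOpenMap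

theorem quasiSeparated_of_comp_surjective [QuasiCompact g] [Surjective g] [QuasiSeparated (g ≫ h)] :
    QuasiSeparated h := by
  let m := pullback.map (g ≫ h) (g ≫ h) h h g g (𝟙 Z) (by simp) (by simp)
  have : QuasiCompact m :=
    MorphismProperty.pullbackMap (P := @QuasiCompact) (inferInstanceAs (QuasiCompact g))
      (inferInstanceAs (QuasiCompact g)) rfl rfl
  have e : g ≫ pullback.diagonal h = pullback.diagonal (g ≫ h) ≫ m := by
    apply pullback.hom_ext <;> simp [m]
  have : QuasiCompact (g ≫ pullback.diagonal h) := e ▸ inferInstance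
  exact ⟨quasiCompact_of_comp_surjective g _⟩

variable {X X' S S' : Scheme.{u}} (iX : X ⟶ X') (iS : S ⟶ S') (f : X ⟶ S) (f' : X' ⟶ S')
  (hX : MoreMor.IsThickening iX) (hS : MoreMor.IsThickening iS) (w : iX ≫ f' = f ≫ iS)
include hX hS w

theorem thickening_quasiCompact_iff : QuasiCompact f ↔ QuasiCompact f' := by
  have := hX.1; have := hX.2; have := hS.1
  exact ⟨fun _ => have : QuasiCompact (iX ≫ f') := by (rw [w]; infer_instance)
    quasiCompact_of_comp_surjective iX f',
    fun _ => of_comp_mono @QuasiCompact f iS (w ▸ inferInstance)⟩

theorem thickening_universallyClosed_iff : UniversallyClosed f ↔ UniversallyClosed f' := by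
  have := hX.1; have := hX.2; have := hS.1
  exact ⟨fun _ => have : UniversallyClosed (iX ≫ f') := by (rw [w]; infer_instance)
    UniversallyClosed.of_comp_surjective iX f',
    fun _ => of_comp_mono @UniversallyClosed f iS (w ▸ inferInstance)⟩

theorem thickening_quasiSeparated_iff : QuasiSeparated f ↔ QuasiSeparated f' := by
  have := hX.1; have := hX.2; have := hS.1
  exact ⟨fun _ => have : QuasiSeparated (iX ≫ f') := by (rw [w]; infer_instance)
    quasiSeparated_of_comp_surjective iX f',
    fun _ => of_comp_mono @QuasiSeparated f iS (w ▸ inferInstance)⟩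

theorem thickening_universallyInjective_iff :
    UniversallyInjective f ↔ UniversallyInjective f' := by
  have := hX.1; have := hX.2; have := hS.1
  exact ⟨fun _ => have : UniversallyInjective (iX ≫ f') :=
      w ▸ MorphismProperty.comp_mem _ _ _ ‹_› inferInstance
    universallyInjective_of_comp_surjective iX f',
    fun _ => of_comp_mono @UniversallyInjective f iS
      (w ▸ MorphismProperty.comp_mem _ _ _ inferInstance ‹_›)⟩

theorem thickening_universallyOpen_iff : UniversallyOpen f ↔ UniversallyOpen f' := by
  have := hX.1; have := hX.2; have := hS.1; have := hS.2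
  have := universallyOpen_of_thickening iX
  have := universallyOpen_of_thickening iS
  exact ⟨fun _ => have : UniversallyOpen (iX ≫ f') := by (rw [w]; infer_instance)
    universallyOpen_of_comp_surjective iX f',
    fun _ => of_comp_mono @UniversallyOpen f iS (w ▸ inferInstance)⟩

end Groth.Agent.FlatMorThick
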