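import Groth.Agent.FlatMorThick.UnitRoot
import Groth.Agent.AmpleLib.Power
import Groth.Agent.PicLib.CocycleGlue
import Groth.Agent.PicLib.PullbackGen

/-!
# Torsion invertible modules lift along thickenings
-/

set_option autoImplicit false
set_option backward.isDefEq.respectTransparency.types false
universe u

open CategoryTheory CategoryTheory.Limits AlgebraicGeometry Opposite TopologicalSpace
open Groth.Agent.Coherent Groth.Agent.PicLib Groth.Agent.AmpleLib

namespace Groth.Agent.FlatMorThick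

/-- A module with generators whose `n`-th powers have coboundary transition functions is `n`-torsion. -/
theorem nonempty_tensorPow_iso_unit {X : Scheme.{u}} {L : X.Modules} (n : ℕ) {ι : Type u}
    (W : ι → X.Opens) (hW : iSup W = ⊤) (s : ∀ i, Γ(L, W i)) (hs : ∀ i, IsGen L (W i) (s i))
    (η : ∀ i j, Γ(X, W i ⊓ W j))
    (hη : ∀ i j, resM L (inf_le_left : W i ⊓ W j ≤ W i) (s i) =
      η i j • resM L (inf_le_right : W i ⊓ W j ≤ W j) (s j))
    (u : ∀ i, Γ(X, W i)) (hu : ∀ i, IsUnit (u i))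
    (hpow : ∀ i j, η i j ^ n * PicLib.res (inf_le_right : W i ⊓ W j ≤ W j) (u j) =
      PicLib.res (inf_le_left : W i ⊓ W j ≤ W i) (u i)) :
    Nonempty (CohB1.tensorPow L n ≅ Coh.structureModule X) := by
  let t : ∀ i, Γ(Coh.structureModule X, W i) := fun i => (u i • oneSec (W i))
  have ht : ∀ i, IsGen (Coh.structureModule X) (W i) (t i) := fun i => by
    obtain ⟨w, hw⟩ := hu i
    show IsGen _ _ (u i • oneSec (W i))
    rw [← hw]
    exact (isGen_oneSec (W i)).smul_unit w
  obtain ⟨e, -⟩ := exists_iso_of_gens W hW (fun i => powSec (s i) n)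
    (fun i => isGen_powSec (hs i) n) t ht (fun i j V hi hj c hc => by
      have hV : V ≤ W i ⊓ W j := le_inf hi hj
      have hrel : resM L hi (s i) = PicLib.res hV (η i j) • resM L hj (s j) := by
        have h := congrArg (resM L hV) (hη i j)
        rwa [resM_smul, resM_resM, resM_resM] at h
      rw [resM_powSec, resM_powSec, hrel, powSec_smul] at hc
      have hc' : PicLib.res hV (η i j) ^ n = c :=
        ((isGen_powSec ((hs j).restrict hj) n) V le_rfl).1 (by simpa only [resM_self] using hc)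
      have h := congrArg (PicLib.res hV) (hpow i j)
      rw [map_mul, map_pow, PicLib.res_res, PicLib.res_res, hc'] at h
      show resM _ hi (u i • oneSec (W i)) = c • resM _ hj (u j • oneSec (W j))
      rw [resM_smul, resM_smul, resM_oneSec, resM_oneSec, smul_smul]
      exact congrArg (fun r : Γ(X, V) => r • oneSec V) h.symm)
  exact ⟨e⟩

/-- Torsion invertible modules of invertible order lift along a thickening. -/
theorem exists_torsion_lift {X X' : Scheme.{u}} (i : X ⟶ X') [IsClosedImmersion i] [Surjective i]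
    (n : ℕ) (hu : IsUnit (n : Γ(X, ⊤))) {L : X.Modules} (hL : PicF.IsInvertible L)
    (σ : CohB1.tensorPow L n ≅ Coh.structureModule X) :
    ∃ L' : X'.Modules, PicF.IsInvertible L' ∧
      Nonempty (CohB1.tensorPow L' n ≅ Coh.structureModule X') ∧
      Nonempty ((Scheme.Modules.pullback i).obj L' ≅ L) := by
  have hn : ∀ V : X'.Opens, IsUnit (n : Γ(X', V)) := fun V => by
    have h : IsUnit (n : Γ(X', ⊤)) := isUnit_of_app i _ (by rw [map_natCast]; exact hu)
    simpa using h.map (PicLib.res (le_top : V ≤ ⊤))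
  -- affine cover with generators
  obtain ⟨U, g, hmem, hg⟩ := exists_cover hL
  have h : ∀ x' : X', ∃ W : X'.Opens, x' ∈ W ∧ IsAffineOpen W ∧
      ∃ s : Γ(L, i ⁻¹ᵁ W), IsGen L (i ⁻¹ᵁ W) s := by
    intro x'
    obtain ⟨z, rfl⟩ := i.surjective x'
    obtain ⟨O, hO, hOU⟩ := i.isClosedEmbedding.isInducing.isOpen_iff.1 (U z).isOpen
    obtain ⟨W, hW, hzW, hWO⟩ := exists_isAffineOpen_mem_and_subset (U := ⟨O, hO⟩) (x := i z)
      (show z ∈ i ⁻¹' O from hOU.ge (hmem z))
    exact ⟨W, hzW, hW, _, (hg z).restrict (show i ⁻¹ᵁ W ≤ U z from fun y hy => hOU.le (hWO hy))⟩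
  choose W hWmem hW s hs using h
  have hcov : ⨆ a, W a = ⊤ := top_le_iff.1 fun x _ => Opens.mem_iSup.2 ⟨x, hWmem x⟩
  -- the powers
  let v : ∀ a, Γ(X, i ⁻¹ᵁ W a) := fun a => σ.hom.app (i ⁻¹ᵁ W a) (powSec (s a) n)
  have hvu : ∀ a, IsUnit (v a) := fun a => by
    have hgen : IsGen (Coh.structureModule X) (i ⁻¹ᵁ W a) (σ.hom.app _ (powSec (s a) n)) := by
      intro V hV
      convert (ConcreteCategory.bijective_of_isIso (σ.hom.app V)).comp
        (isGen_powSec (hs a) n V hV) using 1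
      funext r
      show r • resM _ hV (σ.hom.app _ (powSec (s a) n)) = σ.hom.app V (r • resM _ hV (powSec (s a) n))
      rw [Scheme.Modules.Hom.app_smul, app_resM]
    have h := (isGen_oneSec (i ⁻¹ᵁ W a)).isUnit_coef hgen
    rwa [(isGen_oneSec (i ⁻¹ᵁ W a)).coef_eq le_rfl (r := v a)
      (by rw [resM_self]; exact mul_one (v a))] at h
  have hlift : ∀ a, ∃ u : Γ(X', W a), i.app (W a) u = v a := fun a =>
    i.app_surjective (W a) (hW a) (v a)
  choose u hu' using hlift
  have huu : ∀ a, IsUnit (u a) := fun a => isUnit_of_app i _ (hu' a ▸ hvu a)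
  -- transition functions downstairs
  let η₀ : ∀ a b, Γ(X, i ⁻¹ᵁ (W a ⊓ W b)) := fun a b =>
    (hs b).coef (i.preimage_mono inf_le_right) (resM L (i.preimage_mono inf_le_left) (s a))
  have hE0 : ∀ a b (V : X.Opens) (h : V ≤ i ⁻¹ᵁ (W a ⊓ W b)),
      resM L (h.trans (i.preimage_mono inf_le_left)) (s a) =
        PicLib.res h (η₀ a b) • resM L (h.trans (i.preimage_mono inf_le_right)) (s b) := by
    intro a b V h
    have := congrArg (resM L h) ((hs b).coef_spec (i.preimage_mono inf_le_right)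
      (resM L (i.preimage_mono (inf_le_left : W a ⊓ W b ≤ W a)) (s a)))
    rw [resM_smul, resM_resM, resM_resM] at this
    exact this.symm
  have hη₀u : ∀ a b, IsUnit (η₀ a b) := fun a b => by
    have h := ((hs b).restrict (i.preimage_mono (inf_le_right : W a ⊓ W b ≤ W b))).isUnit_coef
      ((hs a).restrict (i.preimage_mono (inf_le_left : W a ⊓ W b ≤ W a)))
    rwa [IsGen.coef_eq _ le_rfl (r := η₀ a b)
      (by rw [resM_resM]; exact ((hs b).coef_spec _ _))] at h
  have hv : ∀ a b, η₀ a b ^ n * PicLib.res (i.preimage_mono inf_le_right) (v b) =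
      PicLib.res (i.preimage_mono inf_le_left) (v a) := fun a b => by
    have e : ∀ {a : X'} {V : X.Opens} (h : V ≤ i ⁻¹ᵁ W a),
        σ.hom.app V (powSec (resM L h (s a)) n) = PicLib.res h (v a) := fun {a V} h => by
      rw [← resM_powSec, app_resM]
      rfl
    have h := congrArg (fun t => σ.hom.app _ (powSec t n))
      (hE0 a b (i ⁻¹ᵁ (W a ⊓ W b)) le_rfl)
    simp only [powSec_smul, Scheme.Modules.Hom.app_smul, e] at h
    rw [show PicLib.res (le_refl (i ⁻¹ᵁ (W a ⊓ W b))) (η₀ a b) = η₀ a b from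
      ConcreteCategory.congr_hom (X.presheaf.map_id _) _] at h
    exact h.symm
  -- lift them
  have hroot : ∀ a b, ∃ r : Γ(X', W a ⊓ W b), i.app _ r = η₀ a b ∧
      r ^ n * PicLib.res (inf_le_right : W a ⊓ W b ≤ W b) (u b) =
        PicLib.res (inf_le_left : W a ⊓ W b ≤ W a) (u a) := fun a b => by
    obtain ⟨w, hw⟩ := ((huu b).map (PicLib.res (inf_le_right : W a ⊓ W b ≤ W b))).exists_left_inv
    have hw' : i.app _ w * PicLib.res (i.preimage_mono inf_le_right) (v b) = 1 := by
      rw [← hu' b, ← app_res i (inf_le_right : W a ⊓ W b ≤ W b), ← map_mul, hw, map_one]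
    obtain ⟨r, hr, hrn⟩ := exists_root i (hn _) (η₀ a b) (hη₀u a b)
      (PicLib.res (inf_le_left : W a ⊓ W b ≤ W a) (u a) * w) (by
        rw [map_mul, app_res, hu', ← hv a b, mul_assoc, mul_comm _ (i.app _ w), hw', mul_one])
    refine ⟨r, hr, ?_⟩
    rw [hrn, mul_assoc, hw, mul_one]
  choose η hη hηn using hroot
  have hηu : ∀ a b, IsUnit (η a b) := fun a b => isUnit_of_app i _ (hη a b ▸ hη₀u a b)
  have hco : ∀ a b c (V : X'.Opens) (ha : V ≤ W a) (hb : V ≤ W b) (hc : V ≤ W c),
      PicLib.res (le_inf ha hc) (η a c) =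
        PicLib.res (le_inf ha hb) (η a b) * PicLib.res (le_inf hb hc) (η b c) := by
    intro a b c V ha hb hc
    refine eq_of_pow_eq i (hn V) ((hηu a c).map _) ?_ ?_
    · refine ((huu c).map (PicLib.res hc)).mul_right_cancel ?_
      have h1 := congrArg (PicLib.res (le_inf ha hc)) (hηn a c)
      have h2 := congrArg (PicLib.res (le_inf ha hb)) (hηn a b)
      have h3 := congrArg (PicLib.res (le_inf hb hc)) (hηn b c)
      simp only [map_mul, map_pow, PicLib.res_res] at h1 h2 h3
      rw [mul_pow, mul_assoc, h3, h2, h1]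
    · rw [map_mul, app_res, app_res, app_res, hη, hη, hη]
      refine (hs c _ (i.preimage_mono hc)).1 ?_
      show _ • _ = _ • _
      rw [← hE0 a c, mul_smul, ← hE0 b c, ← hE0 a b]
  obtain ⟨L', s', hL', hgen, hsη⟩ := CocycleGlue.exists_invertible W (fun a b => (hηu a b).unit)
    (fun x a b c => by
      have hx : x ∈ W a.1 ⊓ W b.1 ⊓ W c.1 := ⟨⟨a.2, b.2⟩, c.2⟩
      have ha : W a.1 ⊓ W b.1 ⊓ W c.1 ≤ W a.1 := inf_le_left.trans inf_le_left
      have hb : W a.1 ⊓ W b.1 ⊓ W c.1 ≤ W b.1 := inf_le_left.trans inf_le_right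
      have hc : W a.1 ⊓ W b.1 ⊓ W c.1 ≤ W c.1 := inf_le_right
      show X'.presheaf.germ _ x _ _ = X'.presheaf.germ _ x _ _ * X'.presheaf.germ _ x _ _
      rw [← VarietyLib.StarGlue.germ_resO (le_inf ha hc) hx,
        ← VarietyLib.StarGlue.germ_resO (le_inf ha hb) hx,
        ← VarietyLib.StarGlue.germ_resO (le_inf hb hc) hx, ← map_mul]
      exact congrArg _ (hco _ _ _ _ ha hb hc)) hcov
  refine ⟨L', hL', nonempty_tensorPow_iso_unit n W hcov s' hgen η hsη u huu hηn, ?_⟩
  let P := (Scheme.Modules.pullback i).obj L'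
  let t : ∀ a, Γ(P, i ⁻¹ᵁ W a) := fun a => pullSec i (s' a)
  have ht : ∀ a, IsGen P _ (t a) := fun a => isGen_pullSec i (hgen a) hL'
  have hcov' : ⨆ a, i ⁻¹ᵁ W a = ⊤ :=
    top_le_iff.1 fun z _ => Opens.mem_iSup.2 ⟨_, hWmem (i z)⟩
  have htη : ∀ a b, resM P (i.preimage_mono inf_le_left) (t a) =
      η₀ a b • resM P (i.preimage_mono (inf_le_right : W a ⊓ W b ≤ W b)) (t b) := fun a b => by
    refine (resM_pullSec i inf_le_left (s' a)).trans ?_
    rw [hsη a b, pullSec_smul]
    refine congrArg₂ (fun (r : Γ(X, i ⁻¹ᵁ (W a ⊓ W b))) m => r • m) (hη a b) ?_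
    exact (resM_pullSec i inf_le_right (s' b)).symm
  obtain ⟨e, -⟩ := exists_iso_of_gens (fun a => i ⁻¹ᵁ W a) hcov' t ht s hs
    (fun a b V hi hj c hc => by
      have hV : V ≤ i ⁻¹ᵁ (W a ⊓ W b) := fun z hz => ⟨hi hz, hj hz⟩
      have h := congrArg (resM P hV) (htη a b)
      rw [resM_smul, resM_resM, resM_resM] at h
      rw [← ((ht b) V hj).1 (h.symm.trans hc)]
      exact hE0 a b V hV)
  exact ⟨e⟩

end Groth.Agent.FlatMorThick
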