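import Groth.Agent.PicLib.Invertible
import Groth.Prelude.Def_MoreMor
import Mathlib.Dynamics.Newton
import Mathlib.AlgebraicGeometry.Morphisms.ClosedImmersion

/-!
# Roots of units along thickenings
-/

set_option autoImplicit false
set_option backward.isDefEq.respectTransparency.types false
universe u

open CategoryTheory AlgebraicGeometry Opposite TopologicalSpace
open Groth.Agent.PicLib

namespace Groth.Agent.FlatMorThick

variable {X X' : Scheme.{u}} (i : X ⟶ X') [IsClosedImmersion i] [Surjective i]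

theorem isUnit_of_app {V : X'.Opens} (a : Γ(X', V)) (h : IsUnit (i.app V a)) : IsUnit a := by
  refine X'.toLocallyRingedSpace.toRingedSpace.isUnit_of_isUnit_germ V a fun x' hx' => ?_
  obtain ⟨x, rfl⟩ := i.surjective x'
  apply (isUnit_map_iff (i.stalkMap x).hom _).mp
  have := h.map (X.presheaf.germ (i ⁻¹ᵁ V) x hx').hom
  rwa [← ConcreteCategory.comp_apply, ← Scheme.Hom.germ_stalkMap] at this

theorem app_res {U V : X'.Opens} (h : V ≤ U) (a : Γ(X', U)) :
    i.app V (PicLib.res h a) = PicLib.res (i.preimage_mono h) (i.app U a) :=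
  ConcreteCategory.congr_hom (i.naturality (homOfLE h).op) a

/-- Roots of units of invertible order are rigid along a thickening. -/
theorem eq_of_pow_eq {V : X'.Opens} {n : ℕ} (hn : IsUnit (n : Γ(X', V))) {x y : Γ(X', V)}
    (hx : IsUnit x) (hpow : x ^ n = y ^ n) (happ : i.app V x = i.app V y) : x = y := by
  have hS : IsUnit (∑ k ∈ Finset.range n, x ^ k * y ^ (n - 1 - k)) := by
    refine isUnit_of_app i _ ?_
    rw [map_sum]
    have : ∀ k ∈ Finset.range n, i.app V (x ^ k * y ^ (n - 1 - k)) = (i.app V x) ^ (n - 1) := by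
      intro k hk
      rw [map_mul, map_pow, map_pow, ← happ, ← pow_add,
        Nat.add_sub_cancel' (by have := Finset.mem_range.mp hk; omega)]
    rw [Finset.sum_congr rfl this, Finset.sum_const, Finset.card_range, nsmul_eq_mul]
    refine IsUnit.mul ?_ ((hx.map _).pow _)
    simpa using hn.map (i.app V).hom
  have h := (Commute.all x y).geom_sum₂_mul n
  rw [hpow, sub_self] at h
  exact sub_eq_zero.mp (hS.mul_right_eq_zero.mp h)

/-- Roots of units of invertible order lift along a thickening of an affine scheme. -/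
theorem exists_root_affine {V : X'.Opens} (hV : IsAffineOpen V) {n : ℕ}
    (hn : IsUnit (n : Γ(X', V))) (g : Γ(X, i ⁻¹ᵁ V)) (hg : IsUnit g) (w : Γ(X', V))
    (hw : i.app V w = g ^ n) : ∃ r, i.app V r = g ∧ r ^ n = w := by
  obtain ⟨a, ha⟩ := i.app_surjective V hV g
  have hnil : ∀ b : Γ(X', V), i.app V b = 0 → IsNilpotent b := by
    intro b hb
    rw [Scheme.isNilpotent_iff_basicOpen_eq_bot_of_isCompact hV.isCompact]
    refine bot_unique fun x' hx' => ?_
    obtain ⟨x, rfl⟩ := i.surjective x'
    have : x ∈ i ⁻¹ᵁ X'.basicOpen b := hx'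
    rw [Scheme.preimage_basicOpen, hb, Scheme.basicOpen_zero] at this
    exact this
  have hua : IsUnit a := isUnit_of_app i a (ha ▸ hg)
  obtain ⟨r, ⟨hr, hr0⟩, -⟩ := Polynomial.existsUnique_nilpotent_sub_and_aeval_eq_zero
    (R := Γ(X', V)) (S := Γ(X', V)) (P := Polynomial.X ^ n - Polynomial.C w) (x := a)
    (hnil _ (by simp [ha, hw]))
    (by simpa [Polynomial.derivative_X_pow] using hn.mul (hua.pow (n - 1)))
  have hrn : r ^ n = w := by simpa [sub_eq_zero] using hr0
  have hur : IsUnit r := by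
    have := (hr.neg.isUnit_add_left_of_commute hua (Commute.all _ _))
    simpa using this
  -- adjust by uniqueness on `X`
  refine ⟨r, ?_, hrn⟩
  have h1 : i.app V r ^ n = g ^ n := by rw [← map_pow, hrn, hw]
  have h2 : IsNilpotent (g - i.app V r) := by rw [← ha, ← map_sub]; exact hr.map _
  have hS : IsUnit (∑ k ∈ Finset.range n, (i.app V r) ^ k * g ^ (n - 1 - k)) := by
    have : ∀ k, IsNilpotent ((i.app V r) ^ k - g ^ k) := fun k => by
      obtain ⟨c, hc⟩ := sub_dvd_pow_sub_pow (i.app V r) g k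
      rw [hc]
      exact (Commute.all _ _).isNilpotent_mul_right (by simpa using h2.neg)
    have hsum : IsNilpotent (∑ k ∈ Finset.range n,
        ((i.app V r) ^ k * g ^ (n - 1 - k) - g ^ (n - 1))) := by
      refine Commute.isNilpotent_sum (fun k hk => ?_) fun _ _ _ _ => Commute.all _ _
      have hk' : k ≤ n - 1 := by have := Finset.mem_range.mp hk; omega
      rw [show g ^ (n - 1) = g ^ k * g ^ (n - 1 - k) by
        rw [← pow_add, Nat.add_sub_cancel' hk'], ← sub_mul]
      exact (Commute.all _ _).isNilpotent_mul_right (this k)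
    rw [Finset.sum_sub_distrib, Finset.sum_const, Finset.card_range, nsmul_eq_mul] at hsum
    have hu : IsUnit ((n : Γ(X, i ⁻¹ᵁ V)) * g ^ (n - 1)) := by
      have := hn.map (i.app V).hom
      rw [map_natCast] at this
      exact this.mul (hg.pow _)
    simpa using hsum.isUnit_add_right_of_commute hu (Commute.all _ _)
  have h := (Commute.all (i.app V r) g).geom_sum₂_mul n
  rw [h1, sub_self] at h
  exact sub_eq_zero.mp (hS.mul_right_eq_zero.mp h)

/-- Roots of units of invertible order lift along a thickening, over any open. -/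
theorem exists_root {V : X'.Opens} {n : ℕ} (hn : IsUnit (n : Γ(X', V))) (g : Γ(X, i ⁻¹ᵁ V))
    (hg : IsUnit g) (w : Γ(X', V)) (hw : i.app V w = g ^ n) :
    ∃ r, i.app V r = g ∧ r ^ n = w := by
  choose W hW hxW hWV₀ using fun x : V => exists_isAffineOpen_mem_and_subset (U := V) x.2
  have hWV : ∀ x, W x ≤ V := hWV₀
  have hn' : ∀ {O : X'.Opens}, O ≤ V → IsUnit (n : Γ(X', O)) := fun {O} h => by
    simpa using hn.map (PicLib.res h)
  have hloc : ∀ x : V, ∃ r, i.app (W x) r = PicLib.res (i.preimage_mono (hWV x)) g ∧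
      r ^ n = PicLib.res (hWV x) w := fun x =>
    exists_root_affine i (hW x) (hn' (hWV x)) _ (hg.map _) _ (by rw [app_res, hw, map_pow])
  choose r hr hrn using hloc
  have hcov : V ≤ iSup W := fun x hx => Opens.mem_iSup.mpr ⟨⟨x, hx⟩, hxW _⟩
  obtain ⟨R, hR, -⟩ := TopCat.Sheaf.existsUnique_gluing' X'.sheaf W V (fun x => homOfLE (hWV x))
    hcov r (fun x y => by
      show PicLib.res inf_le_left (r x) = PicLib.res inf_le_right (r y)
      have hu : IsUnit (r x) := isUnit_of_app i _ (hr x ▸ hg.map _)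
      refine eq_of_pow_eq i (hn' (inf_le_left.trans (hWV x))) (hu.map _) ?_ ?_
      · rw [← map_pow, ← map_pow, hrn, hrn, PicLib.res_res, PicLib.res_res]
      · rw [app_res, app_res, hr, hr, PicLib.res_res, PicLib.res_res])
  have hR' : ∀ x, PicLib.res (hWV x) R = r x := hR
  refine ⟨R, ?_, ?_⟩
  · refine TopCat.Sheaf.eq_of_locally_eq' X.sheaf (fun x => i ⁻¹ᵁ W x) (i ⁻¹ᵁ V)
      (fun x => homOfLE (i.preimage_mono (hWV x)))
      (fun z hz => Opens.mem_iSup.mpr ⟨⟨i z, hz⟩, hxW _⟩) _ _ fun x => ?_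
    show PicLib.res (i.preimage_mono (hWV x)) _ = PicLib.res _ g
    rw [← app_res i (hWV x), hR', hr]
  · refine TopCat.Sheaf.eq_of_locally_eq' X'.sheaf W V (fun x => homOfLE (hWV x)) hcov _ _
      fun x => ?_
    show PicLib.res (hWV x) (R ^ n) = PicLib.res _ w
    exact (map_pow _ _ _).trans ((congrArg (· ^ n) (hR' x)).trans (hrn x))

end Groth.Agent.FlatMorThick
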